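import Mathlib
import Cfsg.Agent.Lib.Helper42.LW48.Defs

/-!
# LW48 package [K5END]: the final contradiction for `k = 5`
-/

set_option autoImplicit false

namespace Cfsg.Agent.Lib.Helper75.LW48

open Cfsg.Agent.Lib.Helper75.LW Cfsg.Agent.Lib.Helper42.LW48

universe u

/-- an involution of `G` acting as `(a b)(c d)` normalises the pointwise stabiliser -/
theorem k5end_norm {α : Type u} [Fintype α] [DecidableEq α] (G : Subgroup (Equiv.Perm α))
    (a b c d : α) (v : Equiv.Perm α) (hv : v ∈ G) (h1 : v a = b) (h2 : v b = a) (h3 : v c = d)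
    (h4 : v d = c) : ∀ κ ∈ PS G {a, b, c, d}, v * κ * v⁻¹ ∈ PS G {a, b, c, d} := by
  intro κ hκ
  rw [mem_PS] at hκ ⊢
  obtain ⟨hκG, hκf⟩ := hκ
  have ia : v⁻¹ a = b := by rw [Equiv.Perm.inv_eq_iff_eq]; exact h2.symm
  have ib : v⁻¹ b = a := by rw [Equiv.Perm.inv_eq_iff_eq]; exact h1.symm
  have ic : v⁻¹ c = d := by rw [Equiv.Perm.inv_eq_iff_eq]; exact h4.symm
  have id' : v⁻¹ d = c := by rw [Equiv.Perm.inv_eq_iff_eq]; exact h3.symm
  refine ⟨G.mul_mem (G.mul_mem hv hκG) (G.inv_mem hv), ?_⟩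
  intro x hx
  simp only [Finset.mem_insert, Finset.mem_singleton] at hx
  rcases hx with rfl | rfl | rfl | rfl
  · rw [Equiv.Perm.mul_apply, Equiv.Perm.mul_apply, ia, hκf _ (by simp), h2]
  · rw [Equiv.Perm.mul_apply, Equiv.Perm.mul_apply, ib, hκf _ (by simp), h1]
  · rw [Equiv.Perm.mul_apply, Equiv.Perm.mul_apply, ic, hκf _ (by simp), h4]
  · rw [Equiv.Perm.mul_apply, Equiv.Perm.mul_apply, id', hκf _ (by simp), h3]

/-- `v` maps every point of a `K`-orbit outside the four points into the same orbit -/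
theorem k5end_orb {α : Type u} [Fintype α] [DecidableEq α] (G : Subgroup (Equiv.Perm α))
    (a b c d : α) (v : Equiv.Perm α) (hv : v ∈ G) (h1 : v a = b) (h2 : v b = a) (h3 : v c = d)
    (h4 : v d = c)
    (hfix : ∀ y, y ≠ a → y ≠ b → y ≠ c → y ≠ d →
      ∃ g ∈ G, g a = b ∧ g b = a ∧ g c = d ∧ g d = c ∧ g y = y)
    (y : α) (hya : y ≠ a) (hyb : y ≠ b) (hyc : y ≠ c) (hyd : y ≠ d) :
    ∀ κ ∈ PS G {a, b, c, d}, ∃ κ' ∈ PS G {a, b, c, d}, v (κ y) = κ' y := by
  intro κ hκ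
  have hκ' := mem_PS.mp hκ
  obtain ⟨hκG, hκf⟩ := hκ'
  have hz : ∀ p ∈ ({a, b, c, d} : Finset α), y ≠ p → κ y ≠ p := by
    intro p hp hyp h
    apply hyp
    have : κ y = κ p := by rw [h, hκf p hp]
    exact κ.injective this
  obtain ⟨g, hg, ga, gb, gc, gd, gz⟩ := hfix (κ y) (hz a (by simp) hya) (hz b (by simp) hyb)
    (hz c (by simp) hyc) (hz d (by simp) hyd)
  have ia : g⁻¹ a = b := by rw [Equiv.Perm.inv_eq_iff_eq]; exact gb.symm
  have ib : g⁻¹ b = a := by rw [Equiv.Perm.inv_eq_iff_eq]; exact ga.symm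
  have ic : g⁻¹ c = d := by rw [Equiv.Perm.inv_eq_iff_eq]; exact gd.symm
  have id' : g⁻¹ d = c := by rw [Equiv.Perm.inv_eq_iff_eq]; exact gc.symm
  have iz : g⁻¹ (κ y) = κ y := by rw [Equiv.Perm.inv_eq_iff_eq]; exact gz.symm
  have hρ : v * g⁻¹ ∈ PS G {a, b, c, d} := by
    rw [mem_PS]
    refine ⟨G.mul_mem hv (G.inv_mem hg), ?_⟩
    intro x hx
    simp only [Finset.mem_insert, Finset.mem_singleton] at hx
    rcases hx with rfl | rfl | rfl | rfl
    · rw [Equiv.Perm.mul_apply, ia, h2]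
    · rw [Equiv.Perm.mul_apply, ib, h1]
    · rw [Equiv.Perm.mul_apply, ic, h4]
    · rw [Equiv.Perm.mul_apply, id', h3]
  refine ⟨v * g⁻¹ * κ, (PS G {a, b, c, d}).mul_mem hρ hκ, ?_⟩
  rw [Equiv.Perm.mul_apply, Equiv.Perm.mul_apply, iz]

theorem pkgK5End : PkgK5End.{u} := by
  intro hGen hOrb hCF α _ _ G a b c d v₁ v₂ hab hac had hbc hbd hcd hn hNo hodd hv₁G hv₂G
    hv₁2 hv₂2 hcomm v1a v1b v1c v1d v2a v2c v2b v2d hfix1 hfix2
  classical
  set K := PS G {a, b, c, d} with hK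
  have hv₁ne : v₁ ≠ 1 := by
    intro h
    rw [h] at v1a
    exact hab v1a
  have hv₂ne : v₂ ≠ 1 := by
    intro h
    rw [h] at v2a
    exact hac v2a
  have hne12 : v₁ ≠ v₂ := by
    intro h
    rw [h, v2a] at v1a
    exact hbc v1a.symm
  have h12G : v₁ * v₂ ∈ G := G.mul_mem hv₁G hv₂G
  have h12sq : (v₁ * v₂) * (v₁ * v₂) = 1 := by
    calc (v₁ * v₂) * (v₁ * v₂) = v₁ * (v₂ * v₁) * v₂ := by group
      _ = v₁ * (v₁ * v₂) * v₂ := by rw [hcomm]
      _ = (v₁ * v₁) * (v₂ * v₂) := by group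
      _ = 1 := by rw [hv₁2, hv₂2, mul_one]
  have h12ne : v₁ * v₂ ≠ 1 := by
    intro h
    have : (v₁ * v₂) a = a := by rw [h]; rfl
    rw [Equiv.Perm.mul_apply, v2a, v1c] at this
    exact had this.symm
  have hoddκ : ∀ κ ∈ K, Odd (orderOf κ) := fun κ hκ =>
    Odd.of_dvd_nat hodd (Subgroup.orderOf_dvd_natCard K hκ)
  -- every point outside the four points is fixed by `v₁`
  have key : ∀ y, y ≠ a → y ≠ b → y ≠ c → y ≠ d → v₁ y = y := by
    intro y hya hyb hyc hyd
    obtain ⟨κ₀, hκ₀, e1, e2⟩ := hOrb K v₁ v₂ y hodd hv₁2 hv₂2 hcomm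
      (k5end_orb G a b c d v₁ hv₁G v1a v1b v1c v1d hfix1 y hya hyb hyc hyd)
      (k5end_orb G a c b d v₂ hv₂G v2a v2c v2b v2d
        (fun z hza hzc hzb hzd => hfix2 z hza hzb hzc hzd) y hya hyc hyb hyd |> fun h => by
          have hEq : PS G {a, c, b, d} = PS G {a, b, c, d} := by
            congr 1
            ext x
            simp only [Finset.mem_insert, Finset.mem_singleton]
            tauto
          rw [hEq] at h
          exact h)
    have hsub : K ≤ MulAction.stabilizer (Equiv.Perm α) (κ₀ y) := by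
      apply hGen K (MulAction.stabilizer (Equiv.Perm α) (κ₀ y)) v₁ v₂ hv₁2 hv₂2 hcomm hv₁ne
        hv₂ne hne12
        (k5end_norm G a b c d v₁ hv₁G v1a v1b v1c v1d)
        (by
          have h := k5end_norm G a c b d v₂ hv₂G v2a v2c v2b v2d
          have hEq : PS G {a, c, b, d} = PS G {a, b, c, d} := by
            congr 1
            ext x
            simp only [Finset.mem_insert, Finset.mem_singleton]
            tauto
          rw [hEq] at h
          exact h)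
        hodd
      · intro κ hκ hc
        rw [MulAction.mem_stabilizer_iff, Equiv.Perm.smul_def]
        exact hCF G v₁ κ (κ₀ y) hNo hv₁G hv₁2 hv₁ne (hoddκ κ hκ) hc e1
      · intro κ hκ hc
        rw [MulAction.mem_stabilizer_iff, Equiv.Perm.smul_def]
        exact hCF G v₂ κ (κ₀ y) hNo hv₂G hv₂2 hv₂ne (hoddκ κ hκ) hc e2
      · intro κ hκ hc
        rw [MulAction.mem_stabilizer_iff, Equiv.Perm.smul_def]
        refine hCF G (v₁ * v₂) κ (κ₀ y) hNo h12G h12sq h12ne (hoddκ κ hκ) hc ?_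
        rw [Equiv.Perm.mul_apply, e2, e1]
    have h0 := hsub hκ₀
    rw [MulAction.mem_stabilizer_iff, Equiv.Perm.smul_def] at h0
    have hy : κ₀ y = y := κ₀.injective h0
    rw [hy] at e1
    exact e1
  -- three points outside
  have hc4 : ({a, b, c, d} : Finset α).card ≤ 4 := Finset.card_le_four
  have hcompl : 3 ≤ (Finset.univ \ ({a, b, c, d} : Finset α)).card := by
    have h1 := Finset.card_sdiff_add_card_eq_card (Finset.subset_univ ({a, b, c, d} : Finset α))
    rw [Finset.card_univ] at h1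
    omega
  obtain ⟨s, hs, hs3⟩ := Finset.exists_subset_card_eq hcompl
  have hv1 : v₁ = 1 := by
    apply hNo s hs3 v₁ hv₁G hv₁2
    intro x hx
    have hx' := hs hx
    simp only [Finset.mem_sdiff, Finset.mem_univ, true_and, Finset.mem_insert,
      Finset.mem_singleton, not_or] at hx'
    exact key x hx'.1 hx'.2.1 hx'.2.2.1 hx'.2.2.2
  exact hv₁ne hv1

end Cfsg.Agent.Lib.Helper75.LW48
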