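import Mathlib
import Cfsg.Agent.Lib.Helper42.LW48.Defs
import Cfsg.Agent.Lib.Helper75.LW.All

/-!
# LW48 package [K5V4]: a Klein four-group of `G` inducing the regular four-group on four points
-/

set_option autoImplicit false

namespace Cfsg.Agent.Lib.Helper75.LW48

open Cfsg.Agent.Lib.Helper75.LW Cfsg.Agent.Lib.Helper42.LW48

universe u

theorem k5v4_odd_pow_act {α : Type u} (g : Equiv.Perm α) (m : ℕ) (hm : Odd m) (p q : α)
    (h1 : g p = q) (h2 : g q = p) : (g ^ m) p = q := by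
  obtain ⟨j, rfl⟩ := hm
  have hfix : (g ^ 2) q = q := by
    rw [pow_two, Equiv.Perm.mul_apply, h2, h1]
  rw [pow_succ, pow_mul, Equiv.Perm.mul_apply, h1]
  exact Equiv.Perm.pow_apply_eq_self_of_apply_eq_self hfix j

theorem k5v4_pow_card {α : Type u} [Fintype α] [DecidableEq α] (K : Subgroup (Equiv.Perm α))
    (x : Equiv.Perm α) (hx : x ∈ K) : x ^ Nat.card K = 1 := by
  have h := pow_card_eq_one' (G := K) (x := ⟨x, hx⟩)
  have h2 := congrArg Subtype.val h
  rw [Subgroup.coe_pow, Subgroup.coe_one] at h2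
  exact h2

theorem k5v4_sq_mem {α : Type u} [Fintype α] [DecidableEq α] (G : Subgroup (Equiv.Perm α))
    (a b c d : α) (g : Equiv.Perm α) (hg : g ∈ G) (h1 : g a = b) (h2 : g b = a) (h3 : g c = d)
    (h4 : g d = c) : g * g ∈ PS G {a, b, c, d} := by
  rw [mem_PS]
  refine ⟨G.mul_mem hg hg, ?_⟩
  intro x hx
  simp only [Finset.mem_insert, Finset.mem_singleton] at hx
  rcases hx with rfl | rfl | rfl | rfl
  · rw [Equiv.Perm.mul_apply, h1, h2]
  · rw [Equiv.Perm.mul_apply, h2, h1]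
  · rw [Equiv.Perm.mul_apply, h3, h4]
  · rw [Equiv.Perm.mul_apply, h4, h3]

/-- an element of `G` acting as `(a b)(c d)` yields an involution of `G` acting the same way -/
theorem k5v4_invol {α : Type u} [Fintype α] [DecidableEq α] (G : Subgroup (Equiv.Perm α))
    (a b c d : α) (hodd : Odd (Nat.card (PS G {a, b, c, d})))
    (g : Equiv.Perm α) (hg : g ∈ G) (h1 : g a = b) (h2 : g b = a) (h3 : g c = d)
    (h4 : g d = c) :
    (g ^ Nat.card (PS G {a, b, c, d})) ∈ G ∧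
    (g ^ Nat.card (PS G {a, b, c, d})) * (g ^ Nat.card (PS G {a, b, c, d})) = 1 ∧
    (g ^ Nat.card (PS G {a, b, c, d})) a = b ∧ (g ^ Nat.card (PS G {a, b, c, d})) b = a ∧
    (g ^ Nat.card (PS G {a, b, c, d})) c = d ∧ (g ^ Nat.card (PS G {a, b, c, d})) d = c := by
  refine ⟨G.pow_mem hg _, ?_, k5v4_odd_pow_act g _ hodd a b h1 h2,
    k5v4_odd_pow_act g _ hodd b a h2 h1, k5v4_odd_pow_act g _ hodd c d h3 h4,
    k5v4_odd_pow_act g _ hodd d c h4 h3⟩
  rw [← (Commute.refl g).mul_pow]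
  exact k5v4_pow_card _ _ (k5v4_sq_mem G a b c d g hg h1 h2 h3 h4)

theorem pkgK5V4 : PkgK5V4.{u} := by
  intro α _ _ G a b c d hab hac had hbc hbd hcd hT hodd
  classical
  set K := PS G {a, b, c, d} with hK
  set m := Nat.card K with hm
  have hcard : ({a, b, c, d} : Finset α).card = 4 := by
    rw [Finset.card_insert_of_notMem, Finset.card_insert_of_notMem,
      Finset.card_insert_of_notMem, Finset.card_singleton]
    · simp [hcd]
    · simp [hbc, hbd]
    · simp [hab, hac, had]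
  -- the two elements from 4-transitivity
  obtain ⟨g₁, hg₁, hg₁'⟩ := allExt G 4 {a, b, c, d}
    (fun x => (Equiv.swap a b * Equiv.swap c d) x) hcard hT
    ((Equiv.injective _).injOn)
  obtain ⟨g₂, hg₂, hg₂'⟩ := allExt G 4 {a, b, c, d}
    (fun x => (Equiv.swap a c * Equiv.swap b d) x) hcard hT
    ((Equiv.injective _).injOn)
  have e1a : g₁ a = b := by
    rw [hg₁' a (by simp)]
    simp [Equiv.Perm.mul_apply, Equiv.swap_apply_of_ne_of_ne hac had]
  have e1b : g₁ b = a := by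
    rw [hg₁' b (by simp)]
    simp [Equiv.Perm.mul_apply, Equiv.swap_apply_of_ne_of_ne hbc hbd]
  have e1c : g₁ c = d := by
    rw [hg₁' c (by simp)]
    simp [Equiv.Perm.mul_apply, Equiv.swap_apply_of_ne_of_ne had.symm hbd.symm]
  have e1d : g₁ d = c := by
    rw [hg₁' d (by simp)]
    simp [Equiv.Perm.mul_apply, Equiv.swap_apply_of_ne_of_ne hac.symm hbc.symm]
  have e2a : g₂ a = c := by
    rw [hg₂' a (by simp)]
    simp [Equiv.Perm.mul_apply, Equiv.swap_apply_of_ne_of_ne hab had]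
  have e2c : g₂ c = a := by
    rw [hg₂' c (by simp)]
    simp [Equiv.Perm.mul_apply, Equiv.swap_apply_of_ne_of_ne hbc.symm hcd]
  have e2b : g₂ b = d := by
    rw [hg₂' b (by simp)]
    simp [Equiv.Perm.mul_apply, Equiv.swap_apply_of_ne_of_ne had.symm hcd.symm]
  have e2d : g₂ d = b := by
    rw [hg₂' d (by simp)]
    simp [Equiv.Perm.mul_apply, Equiv.swap_apply_of_ne_of_ne hab.symm hbc]
  -- the first involution
  obtain ⟨hv₁G, hv₁2, v1a, v1b, v1c, v1d⟩ := k5v4_invol G a b c d hodd g₁ hg₁ e1a e1b e1c e1d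
  set v₁ := g₁ ^ m with hv₁
  have hv₁inv : v₁⁻¹ = v₁ := inv_eq_of_mul_eq_one_left hv₁2
  -- its conjugate
  set w := g₂ * v₁ * g₂⁻¹ with hw
  have hwG : w ∈ G := G.mul_mem (G.mul_mem hg₂ hv₁G) (G.inv_mem hg₂)
  have hw2 : w * w = 1 := by
    rw [hw]
    calc g₂ * v₁ * g₂⁻¹ * (g₂ * v₁ * g₂⁻¹) = g₂ * (v₁ * v₁) * g₂⁻¹ := by group
      _ = 1 := by rw [hv₁2]; group
  have hwinv : w⁻¹ = w := inv_eq_of_mul_eq_one_left hw2
  have i2a : g₂⁻¹ a = c := by rw [Equiv.Perm.inv_eq_iff_eq]; exact e2c.symm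
  have i2b : g₂⁻¹ b = d := by rw [Equiv.Perm.inv_eq_iff_eq]; exact e2d.symm
  have i2c : g₂⁻¹ c = a := by rw [Equiv.Perm.inv_eq_iff_eq]; exact e2a.symm
  have i2d : g₂⁻¹ d = b := by rw [Equiv.Perm.inv_eq_iff_eq]; exact e2b.symm
  have wa : w a = b := by
    rw [hw, Equiv.Perm.mul_apply, Equiv.Perm.mul_apply, i2a, v1c, e2d]
  have wb : w b = a := by
    rw [hw, Equiv.Perm.mul_apply, Equiv.Perm.mul_apply, i2b, v1d, e2c]
  have wc : w c = d := by
    rw [hw, Equiv.Perm.mul_apply, Equiv.Perm.mul_apply, i2c, v1a, e2b]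
  have wd : w d = c := by
    rw [hw, Equiv.Perm.mul_apply, Equiv.Perm.mul_apply, i2d, v1b, e2a]
  -- kap := w * v₁ ∈ K
  set kap := w * v₁ with hkap
  have hkapK : kap ∈ K := by
    rw [hK, mem_PS]
    refine ⟨G.mul_mem hwG hv₁G, ?_⟩
    intro x hx
    simp only [Finset.mem_insert, Finset.mem_singleton] at hx
    rcases hx with rfl | rfl | rfl | rfl
    · rw [hkap, Equiv.Perm.mul_apply, v1a, wb]
    · rw [hkap, Equiv.Perm.mul_apply, v1b, wa]
    · rw [hkap, Equiv.Perm.mul_apply, v1c, wd]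
    · rw [hkap, Equiv.Perm.mul_apply, v1d, wc]
  have hkapm : kap ^ m = 1 := k5v4_pow_card K kap hkapK
  have hconj : v₁ * kap * v₁⁻¹ = kap⁻¹ := by
    rw [hkap, mul_inv_rev, hv₁inv, hwinv]
    calc v₁ * (w * v₁) * v₁ = v₁ * w * (v₁ * v₁) := by group
      _ = v₁ * w := by rw [hv₁2, mul_one]
  obtain ⟨j, hj⟩ := hodd
  set mu := kap ^ (j + 1) with hmu
  have hmuK : mu ∈ K := K.pow_mem hkapK _
  have hmu2 : mu * mu = kap := by
    rw [hmu, ← pow_add]
    have : j + 1 + (j + 1) = m + 1 := by omega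
    rw [this, pow_succ, hkapm, one_mul]
  have hmuconj : v₁ * mu * v₁⁻¹ = mu⁻¹ := by
    rw [hmu, ← conj_pow, hconj, inv_pow]
  have hmufix : ∀ x ∈ ({a, b, c, d} : Finset α), mu x = x := (mem_PS.mp hmuK).2
  have hmuG : mu ∈ G := (mem_PS.mp hmuK).1
  have hmuinvfix : ∀ x ∈ ({a, b, c, d} : Finset α), mu⁻¹ x = x := by
    intro x hx
    rw [Equiv.Perm.inv_eq_iff_eq]
    exact (hmufix x hx).symm
  -- h := mu⁻¹ * g₂ commutes with v₁
  set h := mu⁻¹ * g₂ with hh
  have hhG : h ∈ G := G.mul_mem (G.inv_mem hmuG) hg₂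
  have hwk : w = kap * v₁ := by
    rw [hkap]
    calc w = w * (v₁ * v₁) := by rw [hv₁2, mul_one]
      _ = w * v₁ * v₁ := by group
  have hv₁mu : v₁ * mu = mu⁻¹ * v₁ := by
    calc v₁ * mu = (v₁ * mu * v₁⁻¹) * v₁ := by group
      _ = mu⁻¹ * v₁ := by rw [hmuconj]
  have hcomm : h * v₁ = v₁ * h := by
    have h1 : h * v₁ * h⁻¹ = v₁ := by
      calc h * v₁ * h⁻¹ = mu⁻¹ * (g₂ * v₁ * g₂⁻¹) * mu := by rw [hh]; group
        _ = mu⁻¹ * (kap * v₁) * mu := by rw [← hw, hwk]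
        _ = mu⁻¹ * kap * (v₁ * mu) := by group
        _ = mu⁻¹ * (mu * mu) * (mu⁻¹ * v₁) := by rw [hv₁mu, hmu2]
        _ = v₁ := by group
    calc h * v₁ = (h * v₁ * h⁻¹) * h := by group
      _ = v₁ * h := by rw [h1]
  have ha : h a = c := by
    rw [hh, Equiv.Perm.mul_apply, e2a]; exact hmuinvfix c (by simp)
  have hc : h c = a := by
    rw [hh, Equiv.Perm.mul_apply, e2c]; exact hmuinvfix a (by simp)
  have hb : h b = d := by
    rw [hh, Equiv.Perm.mul_apply, e2b]; exact hmuinvfix d (by simp)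
  have hd : h d = b := by
    rw [hh, Equiv.Perm.mul_apply, e2d]; exact hmuinvfix b (by simp)
  -- the second involution
  have hodd' : Odd m := ⟨j, hj⟩
  have hv₂G : h ^ m ∈ G := G.pow_mem hhG _
  have hsq : h * h ∈ K := by
    rw [hK, mem_PS]
    refine ⟨G.mul_mem hhG hhG, ?_⟩
    intro x hx
    simp only [Finset.mem_insert, Finset.mem_singleton] at hx
    rcases hx with rfl | rfl | rfl | rfl
    · rw [Equiv.Perm.mul_apply, ha, hc]
    · rw [Equiv.Perm.mul_apply, hb, hd]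
    · rw [Equiv.Perm.mul_apply, hc, ha]
    · rw [Equiv.Perm.mul_apply, hd, hb]
  have hv₂2 : h ^ m * h ^ m = 1 := by
    rw [← (Commute.refl h).mul_pow]
    exact k5v4_pow_card K _ hsq
  have hc12 : v₁ * h ^ m = h ^ m * v₁ := by
    have : Commute v₁ h := hcomm.symm
    exact (this.pow_right m)
  exact ⟨v₁, hv₁G, h ^ m, hv₂G, hv₁2, hv₂2, hc12, v1a, v1b, v1c, v1d,
    k5v4_odd_pow_act h m hodd' a c ha hc, k5v4_odd_pow_act h m hodd' c a hc ha,
    k5v4_odd_pow_act h m hodd' b d hb hd, k5v4_odd_pow_act h m hodd' d b hd hb⟩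

end Cfsg.Agent.Lib.Helper75.LW48
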